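import Cfsg.Agent.Lib.PiHomog86.SylowTwo
import Cfsg.Agent.Lib.PSL2.Basic
import Cfsg.Agent.Lib.Characters.Burnside

/-!
# The simple groups with abelian Sylow 2-subgroups

The linear groups and the groups of order `175560` are prime to every set of odd primes for which they
are homogeneous; the groups of Ree order are left as a hypothesis.
-/

set_option autoImplicit false

namespace CfsgLib.PiHomog86.SylowTwo

open H79.PiClosed

universe u

/-- The list of simple groups with abelian Sylow 2-subgroups. -/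
def AbelianList : Prop :=
  ∀ (G : Type u) [Group G] [Finite G] [IsSimpleGroup G], ¬ IsMulCommutative G →
    ∀ S : Sylow 2 G, IsMulCommutative (S : Subgroup G) →
    (∃ a : ℕ, 2 ≤ a ∧ ∃ (F : Type) (_ : Field F) (_ : Fintype F), Fintype.card F = 2 ^ a ∧
        Nonempty (G ≃* Matrix.ProjectiveSpecialLinearGroup (Fin 2) F)) ∨
      (∃ (F : Type) (_ : Field F) (_ : Fintype F), (Fintype.card F % 8 = 3 ∨ Fintype.card F % 8 = 5) ∧
        Nonempty (G ≃* Matrix.ProjectiveSpecialLinearGroup (Fin 2) F)) ∨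
      Cfsg.IsRee G ∨ Cfsg.IsJ1 G

/-- The groups of Ree order with abelian Sylow 2-subgroups are prime to `π`. -/
def ReeHom (π : Set ℕ) : Prop :=
  ∀ (G : Type u) [Group G] [Finite G], Cfsg.IsRee G →
    ∀ S : Sylow 2 G, IsMulCommutative (S : Subgroup G) → WeakHom πᶜ G → PiNum πᶜ (Nat.card G)

/-- A small field gives a linear group that is soluble, hence not simple. -/
theorem three_lt_of_simple {G : Type u} [Group G] [Finite G] (hs : IsSimpleGroup G)
    (hnc : ¬ IsMulCommutative G) {F : Type} [Field F] [Fintype F]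
    (hq : Fintype.card F % 8 = 3 ∨ Fintype.card F % 8 = 5)
    (e : G ≃* Matrix.ProjectiveSpecialLinearGroup (Fin 2) F) : 3 < Fintype.card F := by
  classical
  by_contra hle
  have h3 : Fintype.card F = 3 := by omega
  have hcard : Nat.card G = 2 ^ 2 * 3 ^ 1 := by
    have h := CfsgLib.PSL2.card_psl (F := F)
    rw [h3] at h
    rw [Nat.card_congr e.toEquiv]
    norm_num at h ⊢
    omega
  have := CfsgLib.Burnside.isSolvable_of_card_eq Nat.prime_two Nat.prime_three 2 1 hcard
  exact hnc ⟨⟨IsSimpleGroup.comm_iff_isSolvable.2 this⟩⟩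

theorem abelianSimple_of {π : Set ℕ} (hodd : ∀ p ∈ π, p.Prime ∧ p ≠ 2) (hL : AbelianList.{u})
    (hR : ReeHom.{u} π) : AbelianSimple.{u} π := by
  intro L _ _ hs hnc S hS hW
  rcases hL L hnc S hS with ⟨a, ha, F, _, _, hF, ⟨e⟩⟩ | ⟨F, _, _, hF, ⟨e⟩⟩ | h | h
  · refine psl_piNum hodd hW ?_ e
    rw [hF]
    calc 3 < 2 ^ 2 := by norm_num
      _ ≤ 2 ^ a := Nat.pow_le_pow_right (by norm_num) ha
  · exact psl_piNum hodd hW (three_lt_of_simple hs hnc hF e) e
  · exact hR L h S hS hW
  · exact SylowPrime.isJ1_piNum h hnc (fun h => (hodd 2 h).2 rfl) hW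

end CfsgLib.PiHomog86.SylowTwo
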