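import Cfsg.Agent.H79PiClosed

/-!
# Homogeneity passes to quotients, and reduction of closedness to simple quotients
-/

set_option autoImplicit false

namespace CfsgLib.PiHomog86

open H79.PiClosed

universe u

variable {G : Type u} [Group G] {π : Set ℕ}

/-- An element normalising `Q` whose order only has prime divisors in `π` lifts to such an element
normalising a Sylow subgroup of the preimage. -/
theorem weakHom_quotient [Finite G] (hhom : WeakHom π G) (K : Subgroup G) [K.Normal] :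
    WeakHom π (G ⧸ K) := by
  classical
  intro q hq hqπ Q hQ h hh hN
  have := Fact.mk hq
  set φ := QuotientGroup.mk' K
  set N : Subgroup G := (Subgroup.normalizer (Q : Set (G ⧸ K))).comap φ with hNdef
  set J : Subgroup G := Q.comap φ with hJdef
  have hJN : J ≤ N := Subgroup.comap_mono Subgroup.le_normalizer
  have hJn : (J.subgroupOf N).Normal := by
    refine ⟨fun j hj n => ?_⟩
    have hn : φ (n : G) ∈ Subgroup.normalizer (Q : Set (G ⧸ K)) := n.2
    show φ ((n : G) * j * (n : G)⁻¹) ∈ Q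
    rw [map_mul, map_mul, map_inv]
    exact (Subgroup.mem_normalizer_iff.1 hn _).1 hj
  obtain ⟨g, rfl⟩ := QuotientGroup.mk_surjective h
  have hgN : g ∈ N := hN
  obtain ⟨P⟩ : Nonempty (Sylow q ↥(J.subgroupOf N)) := inferInstance
  set PN : Subgroup N := (P : Subgroup ↥(J.subgroupOf N)).map (J.subgroupOf N).subtype with hPN
  set PG : Subgroup G := PN.map N.subtype with hPG
  have hfr : (⟨g, hgN⟩ : N) ∈ Subgroup.normalizer (PN : Set N) ⊔ J.subgroupOf N := by
    rw [hPN, Sylow.normalizer_sup_eq_top P]; trivial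
  obtain ⟨n, hn, j, hj, hnj⟩ := Subgroup.mem_sup_of_normal_right.1 hfr
  have hnj' : (n : G) * (j : G) = g := congrArg Subtype.val hnj
  have hnG : (n : G) ∈ Subgroup.normalizer (PG : Set G) :=
    Subgroup.le_normalizer_map N.subtype ⟨n, hn, rfl⟩
  obtain ⟨c, hc1', hc2⟩ := exists_pi_part (π := π) n
  have hc1 : PiNum π (orderOf ((n : G) ^ c)) := by
    rw [← SubmonoidClass.coe_pow, Subgroup.orderOf_coe]; exact hc1'
  have hcent : ∀ y ∈ PG, (n : G) ^ c * y = y * (n : G) ^ c :=
    hhom q hq hqπ PG ((P.isPGroup'.map _).map _) _ hc1 (Subgroup.pow_mem _ hnG c)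
  have hQimg : ∀ y ∈ Q, ∃ p ∈ PG, φ p = y := by
    let ψ : ↥(J.subgroupOf N) →* ↥Q := (φ.comp (N.subtype.comp (J.subgroupOf N).subtype)).codRestrict Q
      (fun x => x.2)
    have hψ : Function.Surjective ψ := by
      rintro ⟨y, hy⟩
      obtain ⟨x, rfl⟩ := QuotientGroup.mk_surjective y
      exact ⟨⟨⟨x, hJN hy⟩, hy⟩, rfl⟩
    have htop : ((P.mapSurjective hψ : Sylow q ↥Q) : Subgroup ↥Q) = ⊤ :=
      ((P.mapSurjective hψ).3 (hQ.of_equiv Subgroup.topEquiv.symm) le_top).symm
    intro y hy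
    have hmem : (⟨y, hy⟩ : ↥Q) ∈ ((P.mapSurjective hψ : Sylow q ↥Q) : Subgroup ↥Q) := by
      rw [htop]; trivial
    rw [Sylow.coe_mapSurjective] at hmem
    obtain ⟨z, hz, he⟩ := hmem
    exact ⟨_, ⟨_, ⟨z, hz, rfl⟩, rfl⟩, congrArg Subtype.val he⟩
  set h1 : G ⧸ K := φ (n : G) ^ c with hh1
  have h1cent : ∀ y ∈ Q, h1 * y = y * h1 := by
    intro y hy
    obtain ⟨p, hp, rfl⟩ := hQimg y hy
    rw [hh1, ← map_pow, ← map_mul, ← map_mul, hcent p hp]
  -- `h1` agrees with the given element modulo `Q`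
  set M : Subgroup (G ⧸ K) := Subgroup.normalizer (Q : Set (G ⧸ K))
  let ρ : N →* M ⧸ Q.subgroupOf M :=
    (QuotientGroup.mk' (Q.subgroupOf M)).comp ((φ.comp N.subtype).codRestrict M fun x => x.2)
  have hρ : ρ n = ρ ⟨g, hgN⟩ := by
    have hj1 : ρ j = 1 := by
      simp only [ρ, MonoidHom.coe_comp, Function.comp_apply, QuotientGroup.mk'_apply,
        QuotientGroup.eq_one_iff]
      exact hj
    rw [← hnj, map_mul, hj1, mul_one]
  have hord : PiNum π (orderOf (ρ n)) := by
    rw [hρ]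
    refine piNum_of_dvd hh ?_
    simp only [ρ, MonoidHom.coe_comp, Function.comp_apply, QuotientGroup.mk'_apply]
    refine (orderOf_map_dvd (QuotientGroup.mk' (Q.subgroupOf M)) _).trans ?_
    rw [← Subgroup.orderOf_coe]
    exact dvd_rfl
  have hmod : (φ g)⁻¹ * h1 ∈ Q := by
    have e : ρ ⟨g, hgN⟩ = ρ (n ^ c) := by rw [map_pow, hc2 ρ hord, hρ]
    simp only [ρ, MonoidHom.coe_comp, Function.comp_apply, QuotientGroup.mk'_apply] at e
    rw [QuotientGroup.eq, Subgroup.mem_subgroupOf] at e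
    exact e
  have hq1 : (φ g)⁻¹ * h1 = 1 := by
    obtain ⟨k, hk⟩ := IsPGroup.iff_card.1 hQ
    have hd1 : orderOf ((φ g)⁻¹ * h1) ∣ q ^ k := hk ▸ Subgroup.orderOf_dvd_natCard Q hmod
    have hcomm : Commute h1 ((φ g)⁻¹ * h1) := h1cent _ hmod
    have hd2 : orderOf ((φ g)⁻¹ * h1) ∣ orderOf (φ g) * orderOf h1 := by
      have e : φ g = h1 * ((φ g)⁻¹ * h1)⁻¹ := by group
      rw [orderOf_dvd_iff_pow_eq_one]
      have hA : h1 ^ (orderOf (φ g) * orderOf h1) = 1 := by rw [mul_comm, pow_mul, pow_orderOf_eq_one, one_pow]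
      have hB : φ g ^ (orderOf (φ g) * orderOf h1) = 1 := by rw [pow_mul, pow_orderOf_eq_one, one_pow]
      have e' := congrArg (fun x => x ^ (orderOf (φ g) * orderOf h1)) e
      simp only [hcomm.inv_right.mul_pow, hA, hB, one_mul, inv_pow] at e'
      exact inv_eq_one.1 e'.symm
    rw [← orderOf_eq_one_iff]
    refine eq_one_of_piNum (piNum_of_dvd (fun p hp hpd => ?_) hd2)
      (fun p hp hpd => (Nat.prime_dvd_prime_iff_eq hp hq).1 (hp.dvd_of_dvd_pow (hpd.trans hd1)) ▸ hqπ)
    rcases hp.dvd_mul.1 hpd with h' | h'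
    · exact hh p hp h'
    · exact (piNum_of_dvd hc1 (by rw [hh1, ← map_pow]; exact orderOf_map_dvd φ _)) p hp h'
  have he : φ g = h1 := inv_mul_eq_one.1 hq1
  intro y hy
  show φ g * y = y * φ g
  rw [he]
  exact h1cent y hy

/-- Closedness follows from closedness of the non-abelian simple groups satisfying a property
inherited by subgroups and quotients. -/
theorem closed_of_simple (P : ∀ (H : Type u) [Group H], Prop)
    (hsub : ∀ (H : Type u) [Group H] [Finite H], P H → ∀ K : Subgroup H, P ↥K)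
    (hquot : ∀ (H : Type u) [Group H] [Finite H], P H → ∀ (K : Subgroup H) [K.Normal], P (H ⧸ K))
    (hsimple : ∀ (H : Type u) [Group H] [Finite H], IsSimpleGroup H → ¬ IsMulCommutative H → P H →
      WeakHom π H → Closed π H) :
    ∀ (n : ℕ) (H : Type u) [Group H] [Finite H], Nat.card H ≤ n → P H → WeakHom π H → Closed π H := by
  intro n
  induction n with
  | zero => intro H _ _ hn; exact absurd hn (not_le.2 Nat.card_pos)
  | succ n IH =>
    intro H _ _ hn hP hW
    rcases subsingleton_or_nontrivial H with hs | hnt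
    · exact closed_of_piNum_card (fun p hp hd => absurd (Nat.dvd_one.1
        (Nat.card_unique (α := H) ▸ hd)) hp.ne_one)
    obtain ⟨K, ⟨hKn, hKne⟩, hKmax⟩ := (Set.toFinite {K : Subgroup H | K.Normal ∧ K ≠ ⊤}).exists_maximal
      ⟨⊥, inferInstance, bot_ne_top⟩
    have := hKn
    have : Nontrivial (H ⧸ K) := QuotientGroup.nontrivial_iff.2 hKne
    have hsimp : IsSimpleGroup (H ⧸ K) := by
      refine ⟨fun L hL => ?_⟩
      set M := L.comap (QuotientGroup.mk' K) with hM
      have hMn : M.Normal := hL.comap _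
      have hKM : K ≤ M := fun x hx => by
        rw [hM, Subgroup.mem_comap, QuotientGroup.mk'_apply, (QuotientGroup.eq_one_iff x).2 hx]
        exact L.one_mem
      have hLM : L = M.map (QuotientGroup.mk' K) :=
        (Subgroup.map_comap_eq_self_of_surjective (QuotientGroup.mk'_surjective K) L).symm
      by_cases hMt : M = ⊤
      · exact Or.inr (by rw [hLM, hMt, Subgroup.map_top_of_surjective _ (QuotientGroup.mk'_surjective K)])
      · refine Or.inl (by rw [hLM, eq_bot_iff, Subgroup.map_le_iff_le_comap, MonoidHom.comap_bot, QuotientGroup.ker_mk']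
                          exact hKmax ⟨hMn, hMt⟩ hKM)
    have hK : Closed π ↥K := by
      refine IH ↥K (Nat.lt_succ_iff.1 (lt_of_lt_of_le ?_ hn)) (hsub H hP K) (weakHom_subgroup hW K)
      exact lt_of_le_of_ne (Subgroup.card_le_card_group K)
        fun h => hKne (Subgroup.eq_top_of_card_eq K h)
    refine closed_extension hW K hK ?_
    by_cases hc : IsMulCommutative (H ⧸ K)
    · let _ : CommGroup (H ⧸ K) := { (inferInstance : Group (H ⧸ K)) with
        mul_comm := fun a b => hc.is_comm.comm a b }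
      have hp : (Nat.card (H ⧸ K)).Prime := IsSimpleGroup.prime_card
      by_cases hmem : Nat.card (H ⧸ K) ∈ π
      · exact closed_of_piNum_card fun r hr hd => (Nat.prime_dvd_prime_iff_eq hr hp).1 hd ▸ hmem
      · exact closed_of_piNum_compl_card fun r hr hd => (Nat.prime_dvd_prime_iff_eq hr hp).1 hd ▸ hmem
    · exact hsimple _ hsimp hc (hquot H hP K) (weakHom_quotient hW K)

/-- An element of prime order `p` outside `π` that some element inverts forces `p = 2`, when `2 ∈ π`. -/
theorem eq_two_of_conj_inv [Finite G] (hW : WeakHom π G) (h2 : 2 ∈ π) {p : ℕ} (hp : p.Prime)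
    (hpπ : p ∉ π) {x g : G} (hx : orderOf x = p) (hg : g * x * g⁻¹ = x⁻¹) : p = 2 := by
  obtain ⟨k, r, hr, hkr⟩ := Nat.exists_eq_pow_mul_and_not_dvd (orderOf_pos g).ne' 2 (by norm_num)
  have hodd : Odd r := Nat.odd_iff.2 (by omega)
  have hinv : ∀ j : ℕ, g ^ j * x * (g ^ j)⁻¹ = if Even j then x else x⁻¹ := by
    intro j
    induction j with
    | zero => simp
    | succ j ih =>
      rw [pow_succ', mul_inv_rev, show g * g ^ j * x * ((g ^ j)⁻¹ * g⁻¹) = g * (g ^ j * x * (g ^ j)⁻¹) * g⁻¹ by group, ih]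
      by_cases hj : Even j
      · rw [if_pos hj, if_neg (by simpa [Nat.even_add_one] using hj), hg]
      · rw [if_neg hj, if_pos (Nat.even_add_one.2 hj)]
        have := congrArg Inv.inv hg
        rw [mul_inv_rev, mul_inv_rev, inv_inv, inv_inv, ← mul_assoc] at this
        exact this
  have hgx : g ^ r * x * (g ^ r)⁻¹ = x⁻¹ := by
    rw [hinv, if_neg (Nat.not_even_iff_odd.2 hodd)]
  have hord : H79.PiClosed.PiNum π (orderOf (g ^ r)) := fun s hs hd => by
    have hd' : s ∣ 2 ^ k := hd.trans (orderOf_dvd_of_pow_eq_one (by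
      rw [← pow_mul, mul_comm, ← hkr, pow_orderOf_eq_one]))
    exact (Nat.prime_dvd_prime_iff_eq hs Nat.prime_two).1 (hs.dvd_of_dvd_pow hd') ▸ h2
  have hN : g ^ r ∈ Subgroup.normalizer (Subgroup.zpowers x : Set G) := by
    refine Subgroup.mem_normalizer_iff_map_conj_eq.2 ?_
    rw [MonoidHom.map_zpowers]
    show Subgroup.zpowers (g ^ r * x * (g ^ r)⁻¹) = _
    rw [hgx, Subgroup.zpowers_inv]
  have hc := hW p hp hpπ (Subgroup.zpowers x)
    (IsPGroup.of_card (n := 1) (by rw [Nat.card_zpowers, hx, pow_one])) _ hord hN x (Subgroup.mem_zpowers x)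
  rw [hc, mul_inv_cancel_right] at hgx
  have hd : orderOf x ∣ 2 := orderOf_dvd_of_pow_eq_one (by
    rw [pow_two]; exact mul_eq_one_iff_eq_inv.2 hgx)
  exact (Nat.prime_dvd_prime_iff_eq hp Nat.prime_two).1 (hx ▸ hd)

end CfsgLib.PiHomog86
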