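import Cfsg.Agent.Lib.PiHomog86.RankThree
import Cfsg.Agent.Lib.ReeReal.Data
import Cfsg.Agent.Lib.Walter.CoreFree

/-!
The π'-elements of a π-homogeneous group with dihedral or abelian Sylow 2-subgroups form a subgroup, granted
the absence of field automorphisms in rank three.
-/

set_option autoImplicit false

namespace CfsgLib.PiHomog86.SylowTwo

universe u

/-- Every configuration of the order theorem has the local data of a group of Ree order. -/
theorem reeData : ReeData.{u} := fun _ _ _ _ _ _ _ _ K => K.exists_reeLocal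

/-- The statement, from the absence of field automorphisms. -/
theorem closed_of_fieldFree (hF : Walter.FieldFree.{u}) {G : Type u} [Group G] [Finite G] (π : Set ℕ)
    (hodd : ∀ p ∈ π, p.Prime ∧ p ≠ 2)
    (h2 : ∀ S : Sylow 2 G, IsMulCommutative S ∨ ∃ n : ℕ, Nonempty ((S : Subgroup G) ≃* DihedralGroup n))
    (hhom : ∀ H : Subgroup G, H ≠ ⊥ → (∀ p : ℕ, p.Prime → p ∣ Nat.card ↥H → p ∈ π) →
      ∀ p : ℕ, p.Prime → p ∣ (Subgroup.centralizer (H : Set G)).relIndex
        (Subgroup.normalizer (H : Set G)) → p ∈ π) :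
    ∃ K : Subgroup G, ∀ x : G, x ∈ K ↔ ∀ p : ℕ, p.Prime → p ∣ orderOf x → p ∉ π :=
  closed_of_inputs Walter.coreFree hF reeData π hodd h2 hhom

end CfsgLib.PiHomog86.SylowTwo
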