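import Cfsg.Agent.Lib.PiHomog86.Basic
import Mathlib.FieldTheory.Finite.Basic
import Mathlib.LinearAlgebra.Matrix.SpecialLinearGroup

/-!
# `PSL₂(q)` is not homogeneous for odd primes

An element of odd prime order prime to `q` is conjugate to its inverse, and for the characteristic a
diagonal element moves the root group.
-/

set_option autoImplicit false

namespace CfsgLib.PiHomog86.PSLHom

open Matrix H79.PiClosed

universe u

variable {F : Type u} [Field F]

local notation "SL2" => Matrix.SpecialLinearGroup (Fin 2) F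
local notation "PSL" => Matrix.ProjectiveSpecialLinearGroup (Fin 2) F

/-- `B A = A⁻¹ B` in coordinates. -/
theorem exists_conj_coords [Fintype F] {a b c d : F} (hdet : a * d - b * c = 1)
    (hD : (a + d) * (a + d) ≠ 4) :
    ∃ x y z : F, x * (a - d) + y * c + z * b = 0 ∧ -(x * x) - y * z = 1 := by
  classical
  by_cases hc : c = 0
  · subst hc
    have he : a - d ≠ 0 := fun h => hD (by
      have : a = d := sub_eq_zero.1 h
      subst this
      linear_combination 4 * hdet)
    refine ⟨-b / (a - d), -1 - (-b / (a - d)) * (-b / (a - d)), 1, ?_, by ring⟩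
    field_simp
    ring
  by_cases h2 : (2 : F) = 0
  · refine ⟨1, -(a - d) / c, 0, by field_simp; ring, ?_⟩
    linear_combination -h2
  have hodd : Fintype.card F % 2 = 1 := by
    have hne : ringChar F ≠ 2 := fun h => h2 (by
      have := (ringChar.spec F 2).2 (by rw [h])
      exact_mod_cast this)
    exact FiniteField.odd_card_of_char_ne_two hne
  set k : F := ((a - d) * (a - d) + 4 * b * c) / (4 * c) with hk
  have h4 : (4 : F) ≠ 0 := by
    rw [show (4 : F) = 2 * 2 by norm_num]
    exact mul_ne_zero h2 h2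
  have hk0 : k ≠ 0 := by
    refine div_ne_zero (fun h => hD ?_) (mul_ne_zero h4 hc)
    linear_combination h + 4 * hdet
  obtain ⟨u, z, huz⟩ := FiniteField.exists_root_sum_quadratic
    (f := Polynomial.C (-c) * Polynomial.X ^ 2 + Polynomial.C (-c))
    (g := Polynomial.C k * Polynomial.X ^ 2)
    (by rw [Polynomial.degree_add_C (by
          rw [Polynomial.degree_C_mul_X_pow 2 (neg_ne_zero.2 hc)]; norm_num),
        Polynomial.degree_C_mul_X_pow 2 (neg_ne_zero.2 hc)]; rfl)
    (by rw [Polynomial.degree_C_mul_X_pow 2 hk0]; rfl) hodd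
  simp only [Polynomial.eval_add, Polynomial.eval_mul, Polynomial.eval_pow, Polynomial.eval_C,
    Polynomial.eval_X] at huz
  set x : F := u + (a - d) * z / (2 * c) with hx
  refine ⟨x, -(x * (a - d) + b * z) / c, z, by field_simp; ring, ?_⟩
  have key : -c * (x * x) + (x * (a - d) + b * z) * z - c = -c * u ^ 2 + -c + k * z ^ 2 := by
    rw [hx, hk]
    field_simp
    ring
  rw [huz] at key
  field_simp
  linear_combination key

/-- An element with trace different from `±2` is conjugate to its inverse. -/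
theorem exists_conj_inv [Fintype F] (A : SL2) (hD : (A 0 0 + A 1 1) * (A 0 0 + A 1 1) ≠ 4) :
    ∃ B : SL2, B * A * B⁻¹ = A⁻¹ := by
  have hdet : A 0 0 * A 1 1 - A 0 1 * A 1 0 = 1 := by
    have h := A.2
    rwa [Matrix.det_fin_two] at h
  obtain ⟨x, y, z, hlin, hd⟩ := exists_conj_coords hdet hD
  let B : SL2 := ⟨!![x, y; z, -x], by rw [Matrix.det_fin_two_of]; linear_combination hd⟩
  refine ⟨B, mul_inv_eq_iff_eq_mul.2 (Subtype.ext ?_)⟩
  rw [Matrix.SpecialLinearGroup.coe_mul, Matrix.SpecialLinearGroup.coe_mul,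
    Matrix.SpecialLinearGroup.coe_inv, Matrix.adjugate_fin_two]
  ext i j
  fin_cases i <;> fin_cases j <;> simp [B, Matrix.mul_apply, Fin.sum_univ_two]
  · linear_combination hlin
  · ring
  · ring
  · linear_combination hlin

/-- An element with trace `±2` has order dividing twice the characteristic. -/
theorem pow_two_mul_eq_one {p : ℕ} [CharP F p] (A : SL2)
    (hD : (A 0 0 + A 1 1) * (A 0 0 + A 1 1) = 4) : A ^ (2 * p) = 1 := by
  obtain ⟨ε, hε, hεt⟩ : ∃ ε : F, ε * ε = 1 ∧ A 0 0 + A 1 1 = 2 * ε := by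
    have : (A 0 0 + A 1 1 - 2) * (A 0 0 + A 1 1 + 2) = 0 := by linear_combination hD
    rcases mul_eq_zero.1 this with h | h
    · exact ⟨1, one_mul 1, by linear_combination h⟩
    · exact ⟨-1, by ring, by linear_combination h⟩
  set M : Matrix (Fin 2) (Fin 2) F := (A : Matrix (Fin 2) (Fin 2) F) with hM
  set N : Matrix (Fin 2) (Fin 2) F := ε • M - 1 with hN
  have hdet : A 0 0 * A 1 1 - A 0 1 * A 1 0 = 1 := by
    have h := A.2
    rwa [Matrix.det_fin_two] at h
  have hNN : N * N = 0 := by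
    ext i j
    fin_cases i <;> fin_cases j <;> simp [hN, hM, Matrix.mul_apply, Fin.sum_univ_two]
    · linear_combination (A 0 0 * ε * ε) * hεt - (ε * ε) * hdet + (2 * A 0 0 * ε - 1) * hε
    · linear_combination (A 0 1 * ε * ε) * hεt + (2 * A 0 1 * ε) * hε
    · linear_combination (A 1 0 * ε * ε) * hεt + (2 * A 1 0 * ε) * hε
    · linear_combination (A 1 1 * ε * ε) * hεt - (ε * ε) * hdet + (2 * A 1 1 * ε - 1) * hε
  have hpow : ∀ n : ℕ, (ε • M) ^ n = 1 + (n : F) • N := by
    intro n
    induction n with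
    | zero => simp
    | succ n ih =>
      rw [pow_succ, ih, show ε • M = 1 + N by rw [hN]; abel, mul_add, mul_one, add_mul, one_mul,
        smul_mul_assoc, hNN, smul_zero, add_zero, Nat.cast_succ, add_smul, one_smul]
      abel
  apply Subtype.ext
  rw [Matrix.SpecialLinearGroup.coe_pow, Matrix.SpecialLinearGroup.coe_one, ← hM]
  have h := hpow (2 * p)
  rw [Nat.cast_mul, CharP.cast_eq_zero F p, mul_zero, zero_smul, add_zero, smul_pow] at h
  rwa [pow_mul, pow_two, hε, one_pow, one_smul] at h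

variable [Fintype F]

/-- In `PSL₂(q)` an element of odd prime order prime to `q` is conjugate to its inverse. -/
theorem conj_inv_of_ne_char {c : ℕ} [CharP F c] {r : ℕ} (hr : r.Prime) (hr2 : r ≠ 2) (hrc : r ≠ c)
    {x : PSL} (hx : orderOf x = r) : ∃ g : PSL, g * x * g⁻¹ = x⁻¹ := by
  obtain ⟨A, rfl⟩ := QuotientGroup.mk_surjective x
  by_cases hD : (A 0 0 + A 1 1) * (A 0 0 + A 1 1) = 4
  · exfalso
    have h := congrArg (QuotientGroup.mk (s := Subgroup.center SL2)) (pow_two_mul_eq_one (p := c) A hD)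
    rw [QuotientGroup.mk_pow, QuotientGroup.mk_one] at h
    have hd : r ∣ 2 * c := hx ▸ orderOf_dvd_of_pow_eq_one h
    rcases hr.dvd_mul.1 hd with h' | h'
    · exact hr2 ((Nat.prime_dvd_prime_iff_eq hr Nat.prime_two).1 h')
    · exact hrc ((Nat.prime_dvd_prime_iff_eq hr (CharP.char_is_prime F c)).1 h')
  · obtain ⟨B, hB⟩ := exists_conj_inv A hD
    exact ⟨QuotientGroup.mk B, by rw [← QuotientGroup.mk_inv, ← QuotientGroup.mk_mul, ← QuotientGroup.mk_mul,
      hB, QuotientGroup.mk_inv]⟩

/-- The upper unitriangular matrices. -/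
def uni : Multiplicative F →* SL2 where
  toFun t := ⟨!![1, t.toAdd; 0, 1], by simp [Matrix.det_fin_two_of]⟩
  map_one' := by
    apply Subtype.ext
    ext i j
    fin_cases i <;> fin_cases j <;> simp
  map_mul' s t := by
    apply Subtype.ext
    show (!![1, (s * t).toAdd; 0, 1] : Matrix (Fin 2) (Fin 2) F) =
      !![1, s.toAdd; 0, 1] * !![1, t.toAdd; 0, 1]
    ext i j
    fin_cases i <;> fin_cases j <;> simp [Matrix.mul_apply, Fin.sum_univ_two, add_comm]

theorem uni_coe (t : F) :
    ((uni (Multiplicative.ofAdd t) : SL2) : Matrix (Fin 2) (Fin 2) F) = !![1, t; 0, 1] := rfl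

/-- `PSL₂(q)`, `q > 3`, has order prime to every set of odd primes for which it is homogeneous. -/
theorem not_dvd_of_weakHom (h3 : 3 < Fintype.card F) {π : Set ℕ}
    (hodd : ∀ p ∈ π, p.Prime ∧ p ≠ 2) (hW : WeakHom πᶜ PSL) {p : ℕ} (hpπ : p ∈ π) :
    ¬ p ∣ Nat.card PSL := by
  classical
  intro hpd
  obtain ⟨c, hc⟩ := CharP.exists F
  have hcp : c.Prime := CharP.char_is_prime F c
  have := Fact.mk hcp
  have key : ∀ r ∈ π, r ≠ c → ¬ r ∣ Nat.card PSL := by
    intro r hr hrc hd
    have := Fact.mk (hodd r hr).1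
    obtain ⟨x, hx⟩ := exists_prime_orderOf_dvd_card' r hd
    obtain ⟨g, hg⟩ := conj_inv_of_ne_char (hodd r hr).1 (hodd r hr).2 hrc hx
    exact (hodd r hr).2
      (eq_two_of_conj_inv hW (fun h => (hodd 2 h).2 rfl) (hodd r hr).1 (not_not.2 hr) hx hg)
  by_cases hpc : p = c
  swap
  · exact key p hpπ hpc hpd
  -- a diagonal element moving the root group
  obtain ⟨s, -, hs⟩ := Finset.exists_mem_notMem_of_card_lt_card
    (s := (({0, 1, -1} : Finset F))) (t := Finset.univ)
    (lt_of_le_of_lt Finset.card_le_three (by rw [Finset.card_univ]; exact h3))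
  simp only [Finset.mem_insert, Finset.mem_singleton, not_or] at hs
  obtain ⟨hs0, hs1, hs2⟩ := hs
  let D : SL2 := ⟨!![s, 0; 0, s⁻¹], by simp [Matrix.det_fin_two_of, hs0]⟩
  set φ : Multiplicative F →* PSL := (QuotientGroup.mk' (Subgroup.center SL2)).comp uni
  have hDpow : ∀ n : ℕ, ((D ^ n : SL2) : Matrix (Fin 2) (Fin 2) F) = !![s ^ n, 0; 0, (s⁻¹) ^ n] := by
    intro n
    induction n with
    | zero => simp [Matrix.one_fin_two]
    | succ n ih =>
      rw [pow_succ, Matrix.SpecialLinearGroup.coe_mul, ih]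
      ext i j
      fin_cases i <;> fin_cases j <;> simp [D, Matrix.mul_apply, Fin.sum_univ_two, pow_succ]
  have hDord : (QuotientGroup.mk D : PSL) ^ (Fintype.card F - 1) = 1 := by
    rw [← QuotientGroup.mk_pow, show D ^ (Fintype.card F - 1) = 1 from Subtype.ext (by
      rw [hDpow, inv_pow, FiniteField.pow_card_sub_one_eq_one s hs0, inv_one,
        Matrix.SpecialLinearGroup.coe_one, Matrix.one_fin_two]), QuotientGroup.mk_one]
  have hDπ : PiNum πᶜ (orderOf (QuotientGroup.mk D : PSL)) := by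
    intro r hr hrd hrπ
    refine key r hrπ (fun hrc => ?_) (hrd.trans (orderOf_dvd_natCard _))
    have h1 : c ∣ Fintype.card F - 1 := hrc ▸ hrd.trans (orderOf_dvd_of_pow_eq_one hDord)
    have h2 : c ∣ Fintype.card F := by
      obtain ⟨n, -, hn⟩ := FiniteField.card F c
      rw [hn]
      exact dvd_pow_self c n.ne_zero
    have h4 := Nat.dvd_sub h2 h1
    rw [Nat.sub_sub_self (by omega : 1 ≤ Fintype.card F)] at h4
    exact hcp.ne_one (Nat.dvd_one.1 h4)
  have hconj : ∀ t : F, D * uni (Multiplicative.ofAdd t) * D⁻¹ = uni (Multiplicative.ofAdd (s * s * t)) := by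
    intro t
    refine mul_inv_eq_iff_eq_mul.2 (Subtype.ext ?_)
    rw [Matrix.SpecialLinearGroup.coe_mul, Matrix.SpecialLinearGroup.coe_mul, uni_coe, uni_coe]
    ext i j
    fin_cases i <;> fin_cases j <;> simp [D, Matrix.mul_apply, Fin.sum_univ_two]
    field_simp
  have hφ : ∀ t : F, (QuotientGroup.mk D : PSL) * φ (Multiplicative.ofAdd t) * (QuotientGroup.mk D)⁻¹ =
      φ (Multiplicative.ofAdd (s * s * t)) := by
    intro t
    show QuotientGroup.mk D * QuotientGroup.mk (uni _) * (QuotientGroup.mk D)⁻¹ = _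
    rw [← QuotientGroup.mk_inv, ← QuotientGroup.mk_mul, ← QuotientGroup.mk_mul, hconj]
    rfl
  have hQ : IsPGroup p φ.range := by
    rw [hpc]
    intro ⟨y, t, ht⟩
    refine ⟨1, Subtype.ext ?_⟩
    show y ^ c ^ 1 = 1
    rw [pow_one, ← ht, ← map_pow, show t ^ c = 1 from Multiplicative.toAdd.injective (by
      rw [toAdd_pow, toAdd_one, nsmul_eq_mul, CharP.cast_eq_zero F c, zero_mul]), map_one]
  have hN : (QuotientGroup.mk D : PSL) ∈ Subgroup.normalizer (φ.range : Set PSL) := by
    refine Subgroup.mem_normalizer_iff.2 fun y => ⟨?_, ?_⟩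
    · rintro ⟨t, rfl⟩
      exact ⟨_, (hφ t.toAdd).symm⟩
    · rintro ⟨t, ht⟩
      refine ⟨Multiplicative.ofAdd ((s * s)⁻¹ * t.toAdd), ?_⟩
      have h := hφ ((s * s)⁻¹ * t.toAdd)
      rw [← mul_assoc, mul_inv_cancel₀ (mul_ne_zero hs0 hs0), one_mul,
        show φ (Multiplicative.ofAdd t.toAdd) = φ t from rfl, ht] at h
      exact mul_left_cancel (mul_right_cancel h)
  have hcomm := hW p (hodd p hpπ).1 (not_not.2 hpπ) φ.range hQ _ hDπ hN (φ (Multiplicative.ofAdd 1)) ⟨_, rfl⟩
  have h1 := hφ 1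
  rw [hcomm, mul_inv_cancel_right, mul_one] at h1
  have h2 := QuotientGroup.eq.1 (show (QuotientGroup.mk (uni (Multiplicative.ofAdd (1 : F))) : PSL) =
    QuotientGroup.mk (uni (Multiplicative.ofAdd (s * s))) from h1)
  rw [← map_inv, ← map_mul] at h2
  obtain ⟨r, -, hr⟩ := Matrix.SpecialLinearGroup.mem_center_iff.1 h2
  have h01 : ((uni ((Multiplicative.ofAdd (1 : F))⁻¹ * Multiplicative.ofAdd (s * s)) : SL2) :
      Matrix (Fin 2) (Fin 2) F) 0 1 = 0 := by
    rw [← hr]
    simp [Matrix.scalar_apply]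
  rw [← ofAdd_neg, ← ofAdd_add, uni_coe] at h01
  have h3' : (s - 1) * (s + 1) = 0 := by
    simp at h01
    linear_combination h01
  rcases mul_eq_zero.1 h3' with h | h
  · exact hs1 (sub_eq_zero.1 h)
  · exact hs2 (eq_neg_of_add_eq_zero_left h)

end CfsgLib.PiHomog86.PSLHom
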