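import Cfsg.Agent.Lib.PiHomog86.ReeCase
import Cfsg.Agent.Lib.Walter.TwoTransRee

/-!
The simple groups with abelian Sylow 2-subgroups are prime to the sets of odd primes for which they are
homogeneous, from the rank three inputs and the local data of the groups of Ree order.
-/

set_option autoImplicit false
set_option linter.style.haveILetI false

open Cfsg CfsgLib.ReeType

namespace CfsgLib.PiHomog86.SylowTwo

open H79.PiClosed

universe u

/-- The configurations of the order theorem have the local data of a group of Ree order. -/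
def ReeData : Prop :=
  ∀ (G : Type u) [Group G] [Fintype G] (F : Type) [Field F] [Fintype F] [DecidableEq F] (t : G)
    (K : ReeOrder.Conf t F), ∃ m : ℕ, K.ReeLocal m

/-- A rank three configuration is prime to `π`. -/
theorem setup_piNum (hD : Walter.CoreFree.{u}) (hF : Walter.FieldFree.{u}) (hR : ReeData.{u})
    {π : Set ℕ} (hodd : ∀ p ∈ π, p.Prime ∧ p ≠ 2) {G : Type u} [Group G] [Finite G]
    (E : Walter.Setup G) (hW : WeakHom πᶜ G) : PiNum πᶜ (Nat.card G) := by
  classical
  haveI : Fact (Nat.Prime 2) := ⟨Nat.prime_two⟩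
  haveI := E.simple
  obtain ⟨F, iF, iFt, h3, hC⟩ := hF G E E.local_structure
    (hD G E E.local_structure (E.isCoatom_all (Walter.smallCore hD G)))
  have hab : ∀ P : Sylow 2 G, ∀ a b : P, a * b = b * a := by
    intro P a b
    obtain ⟨g, hg⟩ := MulAction.exists_smul_eq G E.S P
    have hP : (P : Subgroup G) = (E.S : Subgroup G).map (MulAut.conj g).toMonoidHom := by
      rw [← hg]; rfl
    obtain ⟨x, hx, hxa⟩ := hP.le a.2
    obtain ⟨y, hy, hyb⟩ := hP.le b.2
    refine Subtype.ext ?_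
    show (a : G) * b = b * a
    rw [← hxa, ← hyb, ← map_mul, E.comm hx hy, map_mul]
  by_cases h45 : Fintype.card F = 4 ∨ Fintype.card F = 5
  · exact SylowPrime.isJ1_piNum (CfsgLib.JankoThompson.four_five hab h45 E.t E.orderOf_t hC) E.noncomm
      (fun h => (hodd 2 h).2 rfl) hW
  push Not at h45
  by_cases hq3 : Fintype.card F = 3
  · exact (CfsgLib.JankoThompson.three hab hq3 E.t E.orderOf_t hC).elim
  by_cases h17 : Fintype.card F % 8 = 1 ∨ Fintype.card F % 8 = 7
  · exact (ReeOrder.Small.q_mod_one_seven hab h17 E.t hC).elim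
  push Not at h17
  obtain ⟨p, hp⟩ := CharP.exists F
  haveI : Fact p.Prime := ⟨CharP.char_is_prime F p⟩
  obtain ⟨n, hpp, hn⟩ := FiniteField.card F p
  by_cases h35 : Fintype.card F % 8 = 3 ∨ Fintype.card F % 8 = 5
  · obtain ⟨F', iF', iFt', iD', hcard, ⟨hcd⟩⟩ :=
      ReeOrder.Small.exists_centData (by omega) E.t E.orderOf_t hC
    haveI := Fintype.ofFinite G
    obtain ⟨m, D⟩ := hR G F' E.t
      ⟨hcd, E.simple, hab, by rw [hcard]; omega, by rw [hcard]; exact h35⟩
    exact piNum_of_reeLocal hodd D hW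
  · push Not at h35
    exfalso
    have hev : Fintype.card F % 2 = 0 := by omega
    have hp2 : p = 2 := by
      have h2 : 2 ∣ p ^ (n : ℕ) := by rw [← hn]; omega
      exact ((Nat.prime_dvd_prime_iff_eq Nat.prime_two hpp).1
        (Nat.prime_two.dvd_of_dvd_pow h2)).symm
    subst hp2
    have h3n : 3 ≤ (n : ℕ) := by
      by_contra hlt
      have : (n : ℕ) = 1 ∨ (n : ℕ) = 2 := by have := n.pos; omega
      rcases this with h | h <;> rw [h] at hn <;> omega
    exact CfsgLib.JankoThompson.even hab h3n hn E.t E.orderOf_t hC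

/-- The simple groups with abelian Sylow 2-subgroups, from the rank three inputs. -/
theorem abelianSimple_of_inputs (hD : Walter.CoreFree.{u}) (hF : Walter.FieldFree.{u}) (hR : ReeData.{u})
    {π : Set ℕ} (hodd : ∀ p ∈ π, p.Prime ∧ p ≠ 2) : AbelianSimple.{u} π := by
  intro G _ _ hs hG P hP hW
  have hab : ∀ x ∈ (P : Subgroup G), ∀ y ∈ (P : Subgroup G), x * y = y * x := fun x hx y hy =>
    congrArg Subtype.val (hP.is_comm.comm (⟨x, hx⟩ : (P : Subgroup G)) ⟨y, hy⟩)
  have hgood : Walter.RankFour.GoodAt (P : Subgroup G) := Walter.RankFour.goodAt_of_smaller hG P hab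
    fun Y _ _ _ hY T hT _ => Walter.RankFour.good_all hD Y hY T hT
  rcases Walter.RankFour.trichotomy hG P hab hgood with h | h | ⟨h8, hel, hu⟩
  · have hns : ¬ Group.IsSolvable G := fun hs' =>
      hG ⟨⟨fun a b => IsSimpleGroup.comm_iff_isSolvable.2 hs' a b⟩⟩
    obtain ⟨F, iF, iFt, hq, ⟨e⟩⟩ :=
      CfsgLib.SylTwoAbel.exists_psl_of_simple CfsgLib.GW.Done.classification hns P hab h
    rcases hq with ⟨hq, -⟩ | ⟨n, hn, hq⟩
    · exact psl_piNum hodd hW (three_lt_of_simple hs hG hq e) e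
    · refine psl_piNum hodd hW ?_ e
      rw [hq]
      calc 3 < 2 ^ 2 := by norm_num
        _ ≤ 2 ^ n := Nat.pow_le_pow_right (by norm_num) hn
  · obtain ⟨F, iF, iFt, hq, ⟨e⟩⟩ := Walter.RankFour.exists_psl_of_rank_two hG P hab h
    exact psl_piNum hodd hW (three_lt_of_simple hs hG hq e) e
  · obtain ⟨E, -⟩ := Walter.RankFour.exists_setup hG P h8 hel hu
    exact setup_piNum hD hF hR hodd E hW

/-- The statement, from the rank three inputs. -/
theorem closed_of_inputs (hD : Walter.CoreFree.{u}) (hF : Walter.FieldFree.{u}) (hR : ReeData.{u})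
    {G : Type u} [Group G] [Finite G] (π : Set ℕ) (hodd : ∀ p ∈ π, p.Prime ∧ p ≠ 2)
    (h2 : ∀ S : Sylow 2 G, IsMulCommutative S ∨ ∃ n : ℕ, Nonempty ((S : Subgroup G) ≃* DihedralGroup n))
    (hhom : ∀ H : Subgroup G, H ≠ ⊥ → (∀ p : ℕ, p.Prime → p ∣ Nat.card ↥H → p ∈ π) →
      ∀ p : ℕ, p.Prime → p ∣ (Subgroup.centralizer (H : Set G)).relIndex
        (Subgroup.normalizer (H : Set G)) → p ∈ π) :
    ∃ K : Subgroup G, ∀ x : G, x ∈ K ↔ ∀ p : ℕ, p.Prime → p ∣ orderOf x → p ∉ π :=
  closed π hodd (abelianSimple_of_inputs hD hF hR hodd) h2 hhom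

end CfsgLib.PiHomog86.SylowTwo
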