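import Cfsg.Agent.Lib.PiHomog86.AbelianTwo
import Cfsg.Agent.Lib.ReeReal.Instance

/-!
Groups of Ree order are prime to every set of odd primes for which they are homogeneous, granted their
local data.
-/

set_option autoImplicit false

namespace CfsgLib.PiHomog86.SylowTwo

open H79.PiClosed CfsgLib.ReeOrder CfsgLib.ReeOrder.Conf

universe u

variable {G : Type u} [Group G] [Fintype G] {π : Set ℕ}
variable {F : Type} [Field F] [Fintype F] [DecidableEq F] {t : G}

/-- The order of a group of Ree order is prime to `π`. -/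
theorem piNum_of_reeLocal (hodd : ∀ p ∈ π, p.Prime ∧ p ≠ 2) {K : Conf t F} {m : ℕ} (D : K.ReeLocal m)
    (hW : WeakHom πᶜ G) : PiNum πᶜ (Nat.card G) := by
  classical
  intro p hp hpd
  simp only [Set.mem_compl_iff]
  intro hpπ
  obtain ⟨-, hp2⟩ := hodd p hpπ
  have hq11 := K.q_ge
  have hk := D.nine_le
  set L := Matrix.ProjectiveSpecialLinearGroup (Fin 2) F
  have hL : WeakHom πᶜ L :=
    SylowPrime.weakHom_congr (MonoidHom.ofInjective K.cent.up_injective).symm (weakHom_subgroup hW K.cent.up.range)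
  have hnd := PSLHom.not_dvd_of_weakHom (F := F) (by omega) hodd hL hpπ
  have hcent : p ∣ Nat.card (Subgroup.centralizer ({t} : Set G)) → False := fun h => by
    rw [Nat.card_congr K.cent.e.toEquiv, Nat.card_prod] at h
    rcases hp.dvd_mul.1 h with h | h
    · rw [Nat.card_eq_fintype_card] at h
      exact hp2 ((Nat.prime_dvd_prime_iff_eq hp Nat.prime_two).1 h)
    · exact hnd h
  rw [D.card_cent' K.orderOf_t] at hcent
  rw [D.card_G'] at hpd
  have hΦ : p ∣ Fintype.card F ^ 2 - Fintype.card F + 1 := by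
    rw [D.q_third]
    rcases hp.dvd_mul.1 hpd with h | h
    · rcases hp.dvd_mul.1 h with h | h
      · exact absurd ((hp.dvd_of_dvd_pow h).mul_right _) hcent
      · exact absurd (h.mul_left _) hcent
    · have h' : 3 * third m ≤ (3 * third m) ^ 2 := Nat.le_self_pow two_ne_zero _
      rwa [show (3 * third m) ^ 2 - 3 * third m + 1 = 9 * third m ^ 2 + 1 - 3 * third m by
        rw [show 9 * third m ^ 2 = (3 * third m) ^ 2 by ring]; omega]
  obtain ⟨x, hx, s, hs, hsx⟩ := D.exists_real hp hΦ
  refine hp2 (eq_two_of_conj_inv hW (fun h => (hodd 2 h).2 rfl) hp (not_not.2 hpπ) hx (g := s) ?_)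
  rwa [inv_eq_of_mul_eq_one_right (Psl.involution_mul_self hs)]

end CfsgLib.PiHomog86.SylowTwo
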