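import Cfsg.Agent.Lib.PiHomog86.Basic
import Cfsg.Agent.Lib.SuzukiChars.Values

/-!
# Homogeneous groups of order prime to three
-/

set_option autoImplicit false

namespace CfsgLib.PiHomog86

open Cfsg.Lie CfsgLib.SuzukiGroup H79.PiClosed

universe u

variable {F : Type} [Field F] [Fintype F] {m : ℕ}

/-- In a Suzuki group every element of odd prime order is conjugate to its inverse. -/
theorem exists_conj_inv (hm : 1 ≤ m) (hF : Fintype.card F = 2 ^ (2 * m + 1))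
    {x : ↥(Sz F (2 ^ (m + 1)))} {p : ℕ} (hp : p.Prime) (hp2 : p ≠ 2) (hx : orderOf x = p) :
    ∃ g : ↥(Sz F (2 ^ (m + 1))), g * x * g⁻¹ = x⁻¹ := by
  obtain ⟨hchar, ⟨P⟩⟩ := exists_params hF
  have := hchar
  have hx1 : x ≠ 1 := fun h => hp.ne_one (by rw [← hx, h, orderOf_one])
  rcases trichotomy P hx1 with ⟨k, hk⟩ | ⟨k, t, -, hk⟩ | hf
  · have h4 : p ∣ 2 ^ 2 := hx ▸ orderOf_dvd_four P hk
    exact absurd ((Nat.prime_dvd_prime_iff_eq hp Nat.prime_two).1 (hp.dvd_of_dvd_pow h4)) hp2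
  · refine ⟨k⁻¹ * jEl P * k, ?_⟩
    calc k⁻¹ * jEl P * k * x * (k⁻¹ * jEl P * k)⁻¹
        = k⁻¹ * (jEl P * (k * x * k⁻¹) * (jEl P)⁻¹) * k := by group
      _ = k⁻¹ * (k * x * k⁻¹)⁻¹ * k := by rw [hk, jEl_conj_dEl]
      _ = x⁻¹ := by group
  · exact isConj_iff.1 (CfsgLib.SuzukiChars.isConj_inv_fpf P hF hm hf)

/-- Every non-abelian simple group of order prime to three is a Suzuki group. -/
def ThreeFreeSimple : Prop :=
  ∀ (L : Type u) [Group L] [Finite L], IsSimpleGroup L → ¬ IsMulCommutative L →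
    ¬ 3 ∣ Nat.card L → Cfsg.Lie.IsoSuzuki L

/-- A group of order prime to three that is homogeneous for odd primes is closed. -/
theorem threeFree_closed (hTF : ThreeFreeSimple.{u}) {G : Type u} [Group G] [Finite G] (π : Set ℕ)
    (hodd : ∀ p ∈ π, p.Prime ∧ p ≠ 2) (h3 : ¬ 3 ∣ Nat.card G)
    (hhom : ∀ H : Subgroup G, H ≠ ⊥ → (∀ p : ℕ, p.Prime → p ∣ Nat.card ↥H → p ∈ π) →
      ∀ p : ℕ, p.Prime → p ∣ (Subgroup.centralizer (H : Set G)).relIndex
        (Subgroup.normalizer (H : Set G)) → p ∈ π) :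
    ∃ K : Subgroup G, ∀ x : G, x ∈ K ↔ ∀ p : ℕ, p.Prime → p ∣ orderOf x → p ∉ π := by
  have hW : WeakHom πᶜ G := weakHom_of_relIndex fun H hH hc p hp hd hpπ =>
    hpπ (hhom H hH (fun r hr hd => not_not.1 (hc r hr hd)) p hp hd)
  refine closed_of_simple (π := πᶜ) (fun H _ => ¬ 3 ∣ Nat.card H)
    (fun H _ _ h K hd => h (hd.trans (Subgroup.card_subgroup_dvd_card K)))
    (fun H _ _ h K _ hd => h (hd.trans (Subgroup.card_quotient_dvd_card K)))
    (fun H _ _ hs hnc hd hW => ?_) (Nat.card G) G le_rfl h3 hW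
  obtain ⟨F, _, _, m, hm, hF, ⟨e⟩⟩ := hTF H hs hnc hd
  refine closed_of_piNum_card fun p hp hpd hpπ => ?_
  have := Fact.mk hp
  obtain ⟨x, hx⟩ := exists_prime_orderOf_dvd_card' p hpd
  obtain ⟨g, hg⟩ := exists_conj_inv hm hF hp (hodd p hpπ).2 (x := e x) (by rw [e.orderOf_eq, hx])
  refine (hodd p hpπ).2 (eq_two_of_conj_inv hW (fun h => (hodd 2 h).2 rfl) hp (not_not.2 hpπ) hx
    (g := e.symm g) (e.injective ?_))
  rw [map_mul, map_mul, map_inv, map_inv, e.apply_symm_apply, hg]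

end CfsgLib.PiHomog86
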