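import Cfsg.Agent.Lib.PiHomog86.Basic
import Cfsg.Prelude.Def_Sporadic

/-!
# Homogeneity against primes with Sylow subgroups of prime order

In a simple group such a prime has an automiser of order dividing `p - 1`, so it lies outside `π` as soon
as the smaller primes involved do.
-/

set_option autoImplicit false

namespace CfsgLib.PiHomog86.SylowPrime

open H79.PiClosed Subgroup

universe u

variable {G : Type u} [Group G] [Finite G] {π : Set ℕ}

theorem weakHom_congr {H : Type*} [Group H] (e : G ≃* H) (h : WeakHom π G) : WeakHom π H := by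
  intro q hq hqπ Q hQ g hg hgN y hy
  apply e.symm.injective
  rw [map_mul, map_mul]
  refine h q hq hqπ (Q.map e.symm.toMonoidHom) (hQ.map _) _ ?_ ?_ _ ⟨y, hy, rfl⟩
  · rwa [e.symm.orderOf_eq]
  · exact le_normalizer_map e.symm.toMonoidHom ⟨g, hgN, rfl⟩

/-- If the primes dividing `p - 1` and the order lie in `π`, so does a prime `p` with Sylow subgroup of
order `p` in a non-abelian simple group. -/
theorem mem_of_sylow_prime [IsSimpleGroup G] (hnc : ¬ IsMulCommutative G) (hW : WeakHom π G) {p : ℕ}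
    (hp : p.Prime) (hpd : p ∣ Nat.card G) (hp2 : ¬ p ^ 2 ∣ Nat.card G)
    (hs : ∀ s : ℕ, s.Prime → s ∣ p - 1 → s ∣ Nat.card G → s ∈ π) : p ∈ π := by
  classical
  have := Fact.mk hp
  by_contra hpπ
  obtain ⟨P⟩ : Nonempty (Sylow p G) := inferInstance
  have hcard : Nat.card (P : Subgroup G) = p := by
    obtain ⟨n, hn⟩ := IsPGroup.iff_card.1 P.isPGroup'
    have hd : Nat.card (P : Subgroup G) ∣ Nat.card G := card_subgroup_dvd_card _
    rw [hn] at hd ⊢
    match n with
    | 0 =>
      exfalso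
      have h1 := P.card_mul_index
      rw [hn, pow_zero, one_mul] at h1
      exact P.not_dvd_index (h1 ▸ hpd)
    | 1 => rw [pow_one]
    | k + 2 => exact absurd ((pow_dvd_pow p (by omega : 2 ≤ k + 2)).trans hd) hp2
  have hle : normalizer ((P : Subgroup G) : Set G) ≤ centralizer ((P : Subgroup G) : Set G) := by
    intro n hn
    obtain ⟨c, hc1, hc2⟩ := exists_pi_part (π := π) (⟨n, hn⟩ : normalizer ((P : Subgroup G) : Set G))
    set f := (P : Subgroup G).normalizerMonoidHom
    have hcyc : IsCyclic (P : Subgroup G) := isCyclic_of_prime_card hcard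
    have hfd : orderOf (f ⟨n, hn⟩) ∣ p - 1 := by
      have h := _root_.orderOf_dvd_natCard (f ⟨n, hn⟩)
      rwa [Nat.card_congr (IsCyclic.mulAutMulEquiv (P : Subgroup G)).toEquiv, hcard,
        Nat.card_eq_fintype_card, ZMod.card_units_eq_totient, Nat.totient_prime hp] at h
    have hπ : PiNum π (orderOf (f ⟨n, hn⟩)) := fun s hsp hsd =>
      hs s hsp (hsd.trans hfd) (hsd.trans ((orderOf_map_dvd f _).trans
        ((_root_.orderOf_dvd_natCard _).trans (card_subgroup_dvd_card _))))
    have hnc' : ∀ y ∈ (P : Subgroup G), n ^ c * y = y * n ^ c := fun y hy =>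
      hW p hp hpπ P P.isPGroup' (n ^ c) (by
        rw [show n ^ c = ((⟨n, hn⟩ : normalizer ((P : Subgroup G) : Set G)) ^ c :
          normalizer ((P : Subgroup G) : Set G)) from rfl, Subgroup.orderOf_coe]
        exact hc1) (pow_mem hn c) y hy
    have hker : (⟨n, hn⟩ : normalizer ((P : Subgroup G) : Set G)) ^ c ∈ f.ker := by
      rw [normalizerMonoidHom_ker, mem_subgroupOf, mem_centralizer_iff]
      exact fun y hy => (hnc' y hy).symm
    have h1 : f ⟨n, hn⟩ = 1 := by
      rw [← hc2 f hπ, ← map_pow]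
      exact hker
    have h2 : (⟨n, hn⟩ : normalizer ((P : Subgroup G) : Set G)) ∈ f.ker := h1
    rw [normalizerMonoidHom_ker, mem_subgroupOf] at h2
    exact h2
  have hK := MonoidHom.ker_transferSylow_isComplement' P hle
  rcases (inferInstance : (MonoidHom.transferSylow P hle).ker.Normal).eq_bot_or_eq_top with h | h
  · rw [h, isComplement'_bot_left] at hK
    apply hnc
    have hcyc : IsCyclic (P : Subgroup G) := isCyclic_of_prime_card hcard
    exact ⟨⟨fun a b => by
      have ha : a ∈ (P : Subgroup G) := by rw [hK]; trivial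
      have hb : b ∈ (P : Subgroup G) := by rw [hK]; trivial
      let _ : CommGroup (P : Subgroup G) := IsCyclic.commGroup
      exact congrArg Subtype.val (mul_comm (⟨a, ha⟩ : (P : Subgroup G)) ⟨b, hb⟩)⟩⟩
  · rw [h, isComplement'_top_left] at hK
    rw [hK, card_bot] at hcard
    exact hp.one_lt.ne hcard

/-- A simple group of order `175560` meets no set of odd primes for which it is homogeneous. -/
theorem isJ1_piNum (hJ : Cfsg.IsJ1 G) (hnc : ¬ IsMulCommutative G) (h2 : 2 ∈ π) (hW : WeakHom π G) :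
    PiNum π (Nat.card G) := by
  have := hJ.1
  rw [hJ.2]
  have small : ∀ p : ℕ, p.Prime → p ∣ 175560 → p = 2 ∨ p = 3 ∨ p = 5 ∨ p = 7 ∨ p = 11 ∨ p = 19 := by
    intro p hp hd
    rw [show (175560 : ℕ) = 2 * 2 * 2 * 3 * 5 * 7 * 11 * 19 from rfl] at hd
    simp only [hp.dvd_mul] at hd
    simp only [Nat.prime_dvd_prime_iff_eq hp (by norm_num : Nat.Prime 2),
      Nat.prime_dvd_prime_iff_eq hp (by norm_num : Nat.Prime 3),
      Nat.prime_dvd_prime_iff_eq hp (by norm_num : Nat.Prime 5),
      Nat.prime_dvd_prime_iff_eq hp (by norm_num : Nat.Prime 7),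
      Nat.prime_dvd_prime_iff_eq hp (by norm_num : Nat.Prime 11),
      Nat.prime_dvd_prime_iff_eq hp (by norm_num : Nat.Prime 19)] at hd
    tauto
  have get : ∀ p : ℕ, p.Prime → p ∣ 175560 → ¬ p ^ 2 ∣ 175560 →
      (∀ s : ℕ, s.Prime → s ∣ p - 1 → s ∈ π) → p ∈ π := fun p hp hd hd2 h =>
    mem_of_sylow_prime hnc hW hp (hJ.2.symm ▸ hd) (hJ.2.symm ▸ hd2) fun s hs h1 _ => h s hs h1
  have two : ∀ s : ℕ, s.Prime → s ∣ 2 → s ∈ π := fun s hs h =>
    (Nat.prime_dvd_prime_iff_eq hs Nat.prime_two).1 h ▸ h2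
  have h3 : 3 ∈ π := get 3 (by norm_num) (by norm_num) (by norm_num) (fun s hs h => two s hs h)
  have h5 : 5 ∈ π := get 5 (by norm_num) (by norm_num) (by norm_num) fun s hs h =>
    two s hs (hs.dvd_of_dvd_pow (n := 2) h)
  have h7 : 7 ∈ π := get 7 (by norm_num) (by norm_num) (by norm_num) fun s hs h => by
    rcases hs.dvd_mul.1 (show s ∣ 2 * 3 from h) with h | h
    · exact two s hs h
    · exact (Nat.prime_dvd_prime_iff_eq hs (by norm_num : Nat.Prime 3)).1 h ▸ h3
  have h11 : 11 ∈ π := get 11 (by norm_num) (by norm_num) (by norm_num) fun s hs h => by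
    rcases hs.dvd_mul.1 (show s ∣ 2 * 5 from h) with h | h
    · exact two s hs h
    · exact (Nat.prime_dvd_prime_iff_eq hs (by norm_num : Nat.Prime 5)).1 h ▸ h5
  have h19 : 19 ∈ π := get 19 (by norm_num) (by norm_num) (by norm_num) fun s hs h => by
    rcases hs.dvd_mul.1 (show s ∣ 2 * 3 ^ 2 from h) with h | h
    · exact two s hs h
    · exact (Nat.prime_dvd_prime_iff_eq hs (by norm_num : Nat.Prime 3)).1 (hs.dvd_of_dvd_pow h) ▸ h3
  intro p hp hd
  rcases small p hp hd with rfl | rfl | rfl | rfl | rfl | rfl <;> assumption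

end CfsgLib.PiHomog86.SylowPrime
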