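import Cfsg.Agent.Lib.PiHomog86.PSLHom
import Cfsg.Agent.Lib.PiHomog86.SylowPrime
import Cfsg.Agent.Lib.GW.Done
import Cfsg.Prelude.Def_Exceptional

/-!
# Homogeneity with dihedral or abelian Sylow 2-subgroups

Reduction of `π'`-closedness to the simple groups with abelian Sylow 2-subgroups.
-/

set_option autoImplicit false

namespace CfsgLib.PiHomog86.SylowTwo

open H79.PiClosed Subgroup

universe u

/-- Every 2-subgroup is abelian or dihedral. -/
def AD (H : Type u) [Group H] : Prop :=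
  ∀ Q : Subgroup H, IsPGroup 2 Q →
    IsMulCommutative Q ∨ ∃ m : ℕ, 2 ≤ m ∧ Nonempty (Q ≃* DihedralGroup m)

theorem comm_of_le {H : Type u} [Group H] {Q T : Subgroup H} (hle : Q ≤ T) (hT : IsMulCommutative T) :
    IsMulCommutative Q :=
  ⟨⟨fun a b => Subtype.ext (congrArg (fun z : T => (z : H)) (hT.is_comm.comm ⟨a, hle a.2⟩ ⟨b, hle b.2⟩))⟩⟩

theorem comm_of_equiv {A B : Type*} [Group A] [Group B] (e : A ≃* B) (h : IsMulCommutative A) :
    IsMulCommutative B :=
  ⟨⟨fun a b => e.symm.injective (by rw [map_mul, map_mul, h.is_comm.comm])⟩⟩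

theorem comm_of_isCyclic {H : Type u} [Group H] {Q : Subgroup H} (hc : IsCyclic Q) : IsMulCommutative Q :=
  ⟨⟨fun a b => by let _ : CommGroup Q := IsCyclic.commGroup; exact mul_comm a b⟩⟩

theorem AD.subgroup {H : Type u} [Group H] (h : AD H) (K : Subgroup H) : AD K := by
  intro Q hQ
  let e : Q ≃* Q.map K.subtype := Q.equivMapOfInjective K.subtype K.subtype_injective
  rcases h _ (hQ.map K.subtype) with hc | ⟨m, hm, ⟨f⟩⟩
  · exact Or.inl (comm_of_equiv e.symm hc)
  · exact Or.inr ⟨m, hm, ⟨e.trans f⟩⟩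

theorem ad_of_sylow {H : Type u} [Group H] [Finite H] (S : Sylow 2 H)
    (h : IsMulCommutative (S : Subgroup H) ∨ ∃ n : ℕ, Nonempty ((S : Subgroup H) ≃* DihedralGroup n)) :
    AD H := by
  have := Fact.mk Nat.prime_two
  rcases h with hc | ⟨n, hn⟩
  · intro Q hQ
    obtain ⟨T, hQT⟩ := hQ.exists_le_sylow
    exact Or.inl (comm_of_le hQT (comm_of_equiv (Sylow.equiv S T) hc))
  · intro Q hQ
    exact (GW.Main.dc_of_sylow S (Or.inl hn) Q hQ).imp comm_of_isCyclic id

theorem AD.quotient {H : Type u} [Group H] [Finite H] (h : AD H) (K : Subgroup H) [K.Normal] :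
    AD (H ⧸ K) := by
  have := Fact.mk Nat.prime_two
  obtain ⟨S⟩ : Nonempty (Sylow 2 H) := inferInstance
  set φ := QuotientGroup.mk' K
  have hs : Function.Surjective φ := QuotientGroup.mk'_surjective K
  refine ad_of_sylow (S.mapSurjective hs) ?_
  set T : Subgroup (H ⧸ K) := (S.mapSurjective hs : Subgroup (H ⧸ K)) with hT
  have hTe : T = (S : Subgroup H).map φ := by rw [hT, Sylow.coe_mapSurjective]
  rcases h _ S.isPGroup' with hc | ⟨m, hm, ⟨f⟩⟩
  · refine Or.inl ⟨⟨fun a b => Subtype.ext ?_⟩⟩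
    have hmem : ∀ c : T, ∃ d ∈ (S : Subgroup H), φ d = c := fun c => by
      have hc' : (c : H ⧸ K) ∈ (S : Subgroup H).map φ := hTe ▸ c.2
      exact hc'
    obtain ⟨a', ha, ea⟩ := hmem a
    obtain ⟨b', hb, eb⟩ := hmem b
    show (a : H ⧸ K) * b = b * a
    rw [← ea, ← eb, ← map_mul, ← map_mul]
    exact congrArg φ (congrArg (fun z : (S : Subgroup H) => (z : H)) (hc.is_comm.comm ⟨a', ha⟩ ⟨b', hb⟩))
  set x : H ⧸ K := φ (f.symm (DihedralGroup.sr 0) : H)
  set y : H ⧸ K := φ (f.symm (DihedralGroup.sr 1) : H)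
  have hx : x * x = 1 := by
    rw [← map_mul, ← Subgroup.coe_mul, ← map_mul f.symm, DihedralGroup.sr_mul_sr, sub_self,
      ← DihedralGroup.one_def, map_one f.symm, Subgroup.coe_one, map_one]
  have hy : y * y = 1 := by
    rw [← map_mul, ← Subgroup.coe_mul, ← map_mul f.symm, DihedralGroup.sr_mul_sr, sub_self,
      ← DihedralGroup.one_def, map_one f.symm, Subgroup.coe_one, map_one]
  have : NeZero m := ⟨by omega⟩
  have hgen : T = closure {x, y} := by
    rw [hTe]
    refine le_antisymm ?_ ((closure_le _).2 ?_)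
    · rintro _ ⟨z, hz, rfl⟩
      have hxm : x ∈ closure ({x, y} : Set (H ⧸ K)) := subset_closure (Set.mem_insert _ _)
      have hr : φ (f.symm (DihedralGroup.r 1) : H) ∈ closure ({x, y} : Set (H ⧸ K)) := by
        rw [show DihedralGroup.r (1 : ZMod m) = DihedralGroup.sr 0 * DihedralGroup.sr 1 by
          rw [DihedralGroup.sr_mul_sr, sub_zero], map_mul, Subgroup.coe_mul, map_mul]
        exact mul_mem hxm (subset_closure (Set.mem_insert_of_mem _ rfl))
      have hri : ∀ i : ZMod m, φ (f.symm (DihedralGroup.r i) : H) ∈ closure ({x, y} : Set (H ⧸ K)) := by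
        intro i
        rw [← ZMod.natCast_zmod_val i, ← DihedralGroup.r_one_pow, map_pow, SubmonoidClass.coe_pow, map_pow]
        exact pow_mem hr _
      have hall : ∀ d : DihedralGroup m, φ (f.symm d : H) ∈ closure ({x, y} : Set (H ⧸ K)) := by
        rintro (i | i)
        · exact hri i
        · rw [show DihedralGroup.sr i = DihedralGroup.sr 0 * DihedralGroup.r i by
            rw [DihedralGroup.sr_mul_r, zero_add], map_mul, Subgroup.coe_mul, map_mul]
          exact mul_mem hxm (hri i)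
      have := hall (f ⟨z, hz⟩)
      rwa [f.symm_apply_apply] at this
    · rintro z (rfl | rfl)
      · exact ⟨_, (f.symm _).2, rfl⟩
      · exact ⟨_, (f.symm _).2, rfl⟩
  by_cases hcomm : x * y = y * x
  · refine Or.inl (hgen ▸ Subgroup.isMulCommutative_closure ?_)
    rintro a (rfl | rfl) b (rfl | rfl)
    exacts [rfl, hcomm, hcomm.symm, rfl]
  · have hx1 : x ≠ 1 := fun e => hcomm (by rw [e, one_mul, mul_one])
    have hy1 : y ≠ 1 := fun e => hcomm (by rw [e, one_mul, mul_one])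
    obtain ⟨e⟩ := Involutions.closure_pair_mulEquiv_dihedral
      (Involutions.orderOf_eq_two_iff_mul.2 ⟨hx1, hx⟩) (Involutions.orderOf_eq_two_iff_mul.2 ⟨hy1, hy⟩)
    exact Or.inr ⟨_, ⟨(MulEquiv.subgroupCongr hgen).trans e⟩⟩

/-- The primes of `A₇` lie outside every set of odd primes for which it is homogeneous. -/
theorem altSeven_piNum {π : Set ℕ} (h2 : 2 ∈ π) (hW : WeakHom π (alternatingGroup (Fin 7))) :
    PiNum π (Nat.card (alternatingGroup (Fin 7))) := by
  have hs : IsSimpleGroup (alternatingGroup (Fin 7)) := alternatingGroup.isSimpleGroup (by simp)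
  have hnc : ¬ IsMulCommutative (alternatingGroup (Fin 7)) := fun h =>
    absurd (alternatingGroup.isMulCommutative_iff_card_le_three.1 h) (by simp)
  have hcard : Nat.card (alternatingGroup (Fin 7)) = 2520 := by
    rw [nat_card_alternatingGroup, Nat.card_eq_fintype_card, Fintype.card_fin]; rfl
  have h3 : 3 ∈ π := by
    by_contra h
    let x : alternatingGroup (Fin 7) :=
      ⟨Equiv.swap 0 1 * Equiv.swap 1 2, Equiv.Perm.mem_alternatingGroup.2 (by decide)⟩
    let g : alternatingGroup (Fin 7) :=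
      ⟨Equiv.swap 0 1 * Equiv.swap 3 4, Equiv.Perm.mem_alternatingGroup.2 (by decide)⟩
    have hx : orderOf x = 3 := orderOf_eq_prime (Subtype.ext (by decide)) (fun e => by
      have := congrArg Subtype.val e; exact absurd this (by decide))
    have hg : g * x * g⁻¹ = x⁻¹ := Subtype.ext (by decide)
    exact absurd (eq_two_of_conj_inv hW h2 (by norm_num : Nat.Prime 3) h hx hg) (by norm_num)
  have two : ∀ s : ℕ, s.Prime → s ∣ 2 → s ∈ π := fun s hs h =>
    (Nat.prime_dvd_prime_iff_eq hs Nat.prime_two).1 h ▸ h2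
  have get : ∀ p : ℕ, p.Prime → p ∣ 2520 → ¬ p ^ 2 ∣ 2520 →
      (∀ s : ℕ, s.Prime → s ∣ p - 1 → s ∈ π) → p ∈ π := fun p hp hd hd2 h =>
    SylowPrime.mem_of_sylow_prime hnc hW hp (hcard.symm ▸ hd) (hcard.symm ▸ hd2) fun s hs h1 _ => h s hs h1
  have h5 : 5 ∈ π := get 5 (by norm_num) (by norm_num) (by norm_num) fun s hs h =>
    two s hs (hs.dvd_of_dvd_pow (n := 2) h)
  have h7 : 7 ∈ π := get 7 (by norm_num) (by norm_num) (by norm_num) fun s hs h => by
    rcases hs.dvd_mul.1 (show s ∣ 2 * 3 from h) with h | h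
    · exact two s hs h
    · exact (Nat.prime_dvd_prime_iff_eq hs (by norm_num : Nat.Prime 3)).1 h ▸ h3
  intro p hp hd
  rw [hcard, show (2520 : ℕ) = 2 ^ 3 * 3 ^ 2 * 5 * 7 from rfl] at hd
  rcases hp.dvd_mul.1 hd with hd | hd
  · rcases hp.dvd_mul.1 hd with hd | hd
    · rcases hp.dvd_mul.1 hd with hd | hd
      · exact two p hp (hp.dvd_of_dvd_pow hd)
      · exact (Nat.prime_dvd_prime_iff_eq hp (by norm_num : Nat.Prime 3)).1 (hp.dvd_of_dvd_pow hd) ▸ h3
    · exact (Nat.prime_dvd_prime_iff_eq hp (by norm_num : Nat.Prime 5)).1 hd ▸ h5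
  · exact (Nat.prime_dvd_prime_iff_eq hp (by norm_num : Nat.Prime 7)).1 hd ▸ h7

/-- A `PSL₂` over a field with more than three elements is prime to `π`. -/
theorem psl_piNum {π : Set ℕ} (hodd : ∀ p ∈ π, p.Prime ∧ p ≠ 2) {L : Type u} [Group L] [Finite L]
    (hW : WeakHom πᶜ L) {F : Type} [Field F] [Fintype F] (h3 : 3 < Fintype.card F)
    (e : L ≃* Matrix.ProjectiveSpecialLinearGroup (Fin 2) F) : PiNum πᶜ (Nat.card L) := by
  intro p hp hd hpπ
  exact PSLHom.not_dvd_of_weakHom h3 hodd (SylowPrime.weakHom_congr e hW) hpπ (Nat.card_congr e.toEquiv ▸ hd)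

/-- The simple groups with abelian Sylow 2-subgroups are prime to `π`. -/
def AbelianSimple (π : Set ℕ) : Prop :=
  ∀ (L : Type u) [Group L] [Finite L], IsSimpleGroup L → ¬ IsMulCommutative L →
    ∀ S : Sylow 2 L, IsMulCommutative (S : Subgroup L) → WeakHom πᶜ L → PiNum πᶜ (Nat.card L)

/-- Reduction to simple groups with abelian Sylow 2-subgroups. -/
theorem closed {G : Type u} [Group G] [Finite G] (π : Set ℕ) (hodd : ∀ p ∈ π, p.Prime ∧ p ≠ 2)
    (hA : AbelianSimple.{u} π)
    (h2 : ∀ S : Sylow 2 G, IsMulCommutative S ∨ ∃ n : ℕ, Nonempty ((S : Subgroup G) ≃* DihedralGroup n))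
    (hhom : ∀ H : Subgroup G, H ≠ ⊥ → (∀ p : ℕ, p.Prime → p ∣ Nat.card ↥H → p ∈ π) →
      ∀ p : ℕ, p.Prime → p ∣ (Subgroup.centralizer (H : Set G)).relIndex
        (Subgroup.normalizer (H : Set G)) → p ∈ π) :
    ∃ K : Subgroup G, ∀ x : G, x ∈ K ↔ ∀ p : ℕ, p.Prime → p ∣ orderOf x → p ∉ π := by
  have hW : WeakHom πᶜ G := weakHom_of_relIndex fun H hH hc p hp hd hpπ =>
    hpπ (hhom H hH (fun r hr hd => not_not.1 (hc r hr hd)) p hp hd)
  obtain ⟨S₀⟩ : Nonempty (Sylow 2 G) := inferInstance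
  refine closed_of_simple (π := πᶜ) (fun H _ => AD H) (fun H _ _ h K => h.subgroup K)
    (fun H _ _ h K _ => h.quotient K) (fun H _ _ hs hnc hd hW => ?_) (Nat.card G) G le_rfl
    (ad_of_sylow S₀ (h2 S₀)) hW
  refine closed_of_piNum_card ?_
  have := Fact.mk Nat.prime_two
  obtain ⟨S⟩ : Nonempty (Sylow 2 H) := inferInstance
  rcases hd _ S.isPGroup' with hc | ⟨m, hm, hf⟩
  · exact hA H hs hnc S hc hW
  have : Group.IsPerfect H := ⟨((inferInstance : (commutator H).Normal).eq_bot_or_eq_top).resolve_left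
    fun hb => hnc ⟨⟨fun a b => commutatorElement_eq_one_iff_mul_comm.1 (by
      have := commutator_mem_commutator (mem_top a) (mem_top b)
      rwa [← _root_.commutator_def, hb, mem_bot] at this)⟩⟩⟩
  have hO : Cfsg.oddCore H = ⊥ := by
    refine ((inferInstance : (Cfsg.oddCore H).Normal).eq_bot_or_eq_top).resolve_right fun ht => ?_
    have h := CfsgLib.PCore.not_dvd_card_pPrimeCore (p := 2) (G := H)
    rw [show Cfsg.pPrimeCore 2 H = Cfsg.oddCore H from rfl, ht, card_top] at h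
    refine h ((dvd_trans ⟨m, rfl⟩ ?_).trans (card_subgroup_dvd_card (S : Subgroup H)))
    rw [Nat.card_congr hf.some.toEquiv, DihedralGroup.nat_card]
  let e₀ : H ≃* H ⧸ Cfsg.oddCore H :=
    (QuotientGroup.quotientBot.symm).trans (QuotientGroup.quotientMulEquivOfEq hO.symm)
  rcases GW.Done.classification H S m hm hf with ⟨F, i1, i2, -, h3, ⟨e⟩⟩ | ⟨⟨e⟩⟩
  · exact psl_piNum hodd hW h3 (e₀.trans e)
  · have h := altSeven_piNum (π := πᶜ) (fun h => (hodd 2 h).2 rfl)
      (SylowPrime.weakHom_congr (e₀.trans e) hW)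
    rwa [← Nat.card_congr (e₀.trans e).toEquiv] at h

end CfsgLib.PiHomog86.SylowTwo
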